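import Groth.Agent.Lib.CohDelta.FPApprox.Approx
import Groth.Agent.Lib.CohDelta.IdealMul.Main
import Groth.Agent.Lib.Pinch.StalkFrame
import Groth.Agent.H25.Fitting

/-!
# Quasi-coherent subsheaves with prescribed sections on an affine open; annihilators

`exists_sub_span`: a quasi-coherent subsheaf with prescribed finitely generated sections on an affine
open. `exists_fg_between`: the annihilator of a finitely presented module lies between a finitely
generated ideal and an ideal with a power in it.
-/

set_option autoImplicit false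
set_option linter.style.haveILetI false
universe u

open CategoryTheory CategoryTheory.Limits AlgebraicGeometry Opposite TopologicalSpace

namespace Groth.Agent.Lib.CohDelta.SerreGen.Span

open Groth.Agent.Lib Groth.Agent.Lib.Modules Groth.Agent.Lib.Modules.StalkModule
  Groth.Agent.Lib.CohDelta.IdealMul.Sec Groth.Agent.Lib.CohDelta.FPApprox.Approx
  Groth.Agent.Lib.Pinch

/-- The standard sections span the global sections of a free module. -/
theorem span_gen (W : Scheme.{u}) (n : ℕ) :
    Submodule.span Γ(W, ⊤) (Set.range (Free.gen W (n := n))) = ⊤ := by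
  have hf : StalkFrame.IsFrame (FlatMod.freeMod W n) ⊤ (Free.gen W (n := n)) := fun x hx => by
    have h := (FreeStalk.stalkBasis W n x).equivFun.symm.bijective
    convert h using 1
    funext c
    simp
  refine eq_top_iff.mpr fun v _ => ?_
  obtain ⟨c, rfl⟩ := StalkFrame.comb_surjective hf le_rfl v
  simp only [StalkFrame.comb, Groth.Agent.Lib.TensorMod.Dual.rs_self]
  exact Submodule.sum_mem _ fun i _ => Submodule.smul_mem _ _ (Submodule.subset_span ⟨i, rfl⟩)

variable {X : Scheme.{u}}

theorem exists_sub_span_aux {U : Scheme.{u}} (j : U ⟶ X) [IsOpenImmersion j] [QuasiCompact j]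
    (hW : IsAffineOpen (j ''ᵁ ⊤)) (A : X.Modules) [A.IsQuasicoherent] {n : ℕ}
    (t : Fin n → Γ(A, j ''ᵁ ⊤)) :
    ∃ (S : X.Modules) (ι : S ⟶ A), Mono ι ∧ S.IsQuasicoherent ∧
      LinearMap.range (appL ι (j ''ᵁ ⊤)) = Submodule.span Γ(X, j ''ᵁ ⊤) (Set.range t) := by
  let t' : Fin n → Γ(A.restrict j, ⊤) := t
  have hfree : FlatMod.IsFinLocFree (FlatMod.freeMod U n) :=
    TensorMod.LocFree.of_rank (TensorMod.LocFree.isFinLocFree_freeMod _ n)
  haveI := Modules.AffineSections.isQCoh_of_isFinLocFree hfree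
  obtain ⟨H, π, e, hHq, he, -⟩ := exists_lift_module j A (FlatMod.freeMod U n) (Free.freeHom t')
  haveI := hHq
  haveI : (cokernel π).IsQuasicoherent := QCoh.Closure.isQCoh_cokernel π
  refine ⟨kernel (cokernel.π π), kernel.ι _, inferInstance, QCoh.Closure.isQCoh_kernel _, ?_⟩
  rw [← ker_appL, IdealMul.Main.ker_cokernel_π π ⟨_, hW⟩]
  have hπ : ∀ s : Γ(H.restrict j, ⊤), π.app (j ''ᵁ ⊤) s =
      (Free.freeHom t').app ⊤ (e.hom.app ⊤ s) := fun s =>
    (congrArg (fun f : H.restrict j ⟶ A.restrict j => f.app ⊤ s) he).symm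
  refine le_antisymm ?_ (Submodule.span_le.mpr ?_)
  · rintro _ ⟨s, rfl⟩
    show π.app (j ''ᵁ ⊤) s ∈ Submodule.span Γ(X, j ''ᵁ ⊤) (Set.range t)
    rw [hπ]
    suffices ∀ v ∈ Submodule.span Γ(U, ⊤) (Set.range (Free.gen U (n := n))),
        (Free.freeHom t').app ⊤ v ∈ Submodule.span Γ(X, j ''ᵁ ⊤) (Set.range t) from
      this _ ((span_gen U n).symm ▸ Submodule.mem_top)
    intro v hv
    induction hv using Submodule.span_induction with
    | mem v hv =>
      obtain ⟨i, rfl⟩ := hv
      exact Submodule.subset_span ⟨i, (Free.freeHom_app_gen t' i).symm⟩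
    | zero => exact (map_zero ((Free.freeHom t').app ⊤).hom) ▸ Submodule.zero_mem _
    | add v w _ _ h1 h2 =>
      rw [map_add]
      exact Submodule.add_mem _ h1 h2
    | smul r v _ h =>
      have h1 := Scheme.Modules.Hom.app_smul (Free.freeHom t') r v
      exact h1.symm ▸ Submodule.smul_mem _ ((j.appIso ⊤).inv.hom r) h
  · rintro _ ⟨i, rfl⟩
    refine ⟨e.inv.app ⊤ (Free.gen U i), ?_⟩
    show π.app (j ''ᵁ ⊤) (e.inv.app ⊤ (Free.gen U i)) = t i
    refine (hπ _).trans ?_
    have h2 : e.hom.app ⊤ (e.inv.app ⊤ (Free.gen U i)) = Free.gen U i :=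
      congrArg (fun f : FlatMod.freeMod U n ⟶ FlatMod.freeMod U n => f.app ⊤ (Free.gen U i))
        e.inv_hom_id
    rw [h2]
    exact Free.freeHom_app_gen t' i

/-- A quasi-coherent subsheaf with prescribed sections on an affine open. -/
theorem exists_sub_span [QuasiSeparatedSpace X] (A : X.Modules) [A.IsQuasicoherent] {V : X.Opens}
    (hV : IsAffineOpen V) {n : ℕ} (t : Fin n → Γ(A, V)) :
    ∃ (S : X.Modules) (ι : S ⟶ A), Mono ι ∧ S.IsQuasicoherent ∧
      LinearMap.range (appL ι V) = Submodule.span Γ(X, V) (Set.range t) := by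
  haveI := quasiCompact_fromSpec hV
  have e : hV.fromSpec ''ᵁ ⊤ = V := by
    rw [Scheme.Hom.image_top_eq_opensRange, hV.opensRange_fromSpec]
  have key : ∀ {V' : X.Opens}, V' = V →
      (∀ t : Fin n → Γ(A, V'), ∃ (S : X.Modules) (ι : S ⟶ A), Mono ι ∧ S.IsQuasicoherent ∧
        LinearMap.range (appL ι V') = Submodule.span Γ(X, V') (Set.range t)) →
      ∃ (S : X.Modules) (ι : S ⟶ A), Mono ι ∧ S.IsQuasicoherent ∧
        LinearMap.range (appL ι V) = Submodule.span Γ(X, V) (Set.range t) := by
    rintro _ rfl h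
    exact h t
  exact key e fun t => exists_sub_span_aux hV.fromSpec (e.symm ▸ hV) A t

/-- The annihilator of a finitely presented module lies between a finitely generated ideal and an
ideal having a power in it. -/
theorem exists_fg_between (R M : Type u) [CommRing R] [AddCommGroup M] [Module R M]
    [Module.FinitePresentation R M] :
    ∃ (J : Ideal R) (r : ℕ), J.FG ∧ J ≤ Module.annihilator R M ∧
      Module.annihilator R M ^ r ≤ J := by
  classical
  obtain ⟨n, x, hx⟩ := Module.Finite.exists_fin (R := R) (M := M)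
  have hfg : (H25.Fitting.rel (R := R) x).FG :=
    Module.FinitePresentation.fg_ker _ (LinearMap.range_eq_top.mp
      ((Fintype.range_linearCombination R x).trans hx))
  obtain ⟨S, hS⟩ := hfg
  refine ⟨Fitt.ideal R M 0, n, ?_, H25.Fitting.ideal_zero_le_annihilator, ?_⟩
  · rw [H25.Fitting.ideal_eq_of_rel x hx S hS.symm 0]
    exact H25.Fitting.Mn_fg S.finite_toSet _
  · rw [← Ideal.span_eq (Module.annihilator R M), Submodule.span_pow, Submodule.span_le]
    intro d hd
    obtain ⟨f, rfl⟩ := Set.mem_pow.mp hd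
    refine Ideal.subset_span ⟨n, x, Matrix.diagonal fun i => (f i : R), hx, fun i _ => ?_, ?_⟩
    · rw [Finset.sum_eq_single i (fun j _ hj => by rw [Matrix.diagonal_apply_ne _ (Ne.symm hj), zero_smul])
        (by simp), Matrix.diagonal_apply_eq]
      exact Module.mem_annihilator.mp (f i).2 _
    · rw [Matrix.det_diagonal, List.prod_ofFn]

end Groth.Agent.Lib.CohDelta.SerreGen.Span
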